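import Cfsg.Agent.SporB.Ru.Out.Main

/-!
The outer automorphism group of the permutation group of Rudvalis is trivial.
-/

set_option autoImplicit false
set_option maxRecDepth 100000

namespace Cfsg.Agent.SporB.Ru.Out

open Cfsg.Agent.CosetEnum

attribute [local irreducible] evalWord val act go

/-- Exponents are reduced to 1 or 2. -/
theorem red_exp : ∀ j : Fin 29, j.val ≠ 0 → ∃ t : Fin 14, (4 ^ t.val * j.val) % 29 = 1 ∨ (4 ^ t.val * j.val) % 29 = 2 := by
  decide +kernel

theorem conj_to_u (x : G) (hx : orderOf x = 29) : ∃ h : G, ∃ k, (k = 1 ∨ k = 2) ∧ h * x * h⁻¹ = u ^ k := by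
  haveI : Fact (Nat.Prime 29) := ⟨by norm_num⟩
  have hG : Nat.card G = 145926144000 := g0_step.1
  haveI : Finite G := Nat.finite_of_card_ne_zero (by rw [hG]; norm_num)
  have hsyl : ∀ y : G, orderOf y = 29 → ∃ P : Sylow 29 G, (P : Subgroup G) = Subgroup.zpowers y := by
    intro y hy
    have hp : IsPGroup 29 (Subgroup.zpowers y) :=
      IsPGroup.of_card (n := 1) (by rw [Nat.card_zpowers, hy, pow_one])
    obtain ⟨P, hP⟩ := hp.exists_le_sylow
    obtain ⟨n, hn⟩ := P.2.exists_card_eq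
    have hd : 29 ^ n ∣ 145926144000 := hG ▸ hn ▸ Subgroup.card_subgroup_dvd_card P.toSubgroup
    have hn1 : n ≤ 1 := by
      by_contra hc
      exact absurd ((pow_dvd_pow 29 (by omega : 2 ≤ n)).trans hd) (by norm_num)
    refine ⟨P, (Subgroup.eq_of_le_of_card_ge hP ?_).symm⟩
    rw [Nat.card_zpowers, hy, hn]
    exact (Nat.pow_le_pow_right (by norm_num) hn1).trans (by norm_num)
  obtain ⟨P, hP⟩ := hsyl u order_u
  obtain ⟨Q, hQ⟩ := hsyl x hx
  obtain ⟨h, hh⟩ := MulAction.exists_smul_eq G Q P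
  have hmem : h * x * h⁻¹ ∈ Subgroup.zpowers u := by
    rw [← hP, ← hh]
    exact ⟨x, hQ ▸ Subgroup.mem_zpowers x, rfl⟩
  obtain ⟨z, hz⟩ := Subgroup.mem_zpowers_iff.mp hmem
  obtain ⟨j, hj, e⟩ : ∃ j < 29, u ^ j = h * x * h⁻¹ := by
    refine ⟨(z % 29).toNat, by omega, ?_⟩
    rw [← zpow_natCast, Int.toNat_of_nonneg (Int.emod_nonneg _ (by norm_num)), ← hz]
    conv_rhs => rw [← zpow_mod_orderOf u z, order_u]
    rfl
  have hj0 : j ≠ 0 := by
    rintro rfl
    rw [pow_zero, eq_comm, conj_eq_one_iff] at e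
    rw [e, orderOf_one] at hx
    omega
  obtain ⟨t, ht⟩ := red_exp ⟨j, hj⟩ hj0
  refine ⟨(g ^ t.val)⁻¹ * h, (4 ^ t.val * j) % 29, ht, ?_⟩
  rw [← upow_mod, show ((g ^ t.val)⁻¹ * h) * x * ((g ^ t.val)⁻¹ * h)⁻¹ =
    (g ^ t.val)⁻¹ * (h * x * h⁻¹ * g ^ t.val) by group, ← e, upow_gpow, inv_mul_cancel_left]

theorem g_fix (β : MulAut G) {k : ℕ} (hk : k = 1 ∨ k = 2) (hu : β u = u ^ k) :
    ∃ h : G, Commute h u ∧ h * β g * h⁻¹ = g := by
  have h1 : u ^ k * β g = β g * u ^ (4 * k) := by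
    have := congrArg β ug
    rw [map_mul, map_mul, map_pow, hu, ← pow_mul, mul_comm k 4] at this
    exact this
  have h2 : Commute (β g * g⁻¹) (u ^ k) := by
    show β g * g⁻¹ * u ^ k = u ^ k * (β g * g⁻¹)
    rw [← mul_assoc (u ^ k), h1, mul_assoc (β g) (u ^ (4 * k)), mul_assoc]
    congr 1
    rw [inv_mul_eq_iff_eq_mul, ← mul_assoc, ← upow_g, mul_inv_cancel_right]
  have h3 : Commute (β g * g⁻¹) u := by
    rcases hk with rfl | rfl
    · rwa [pow_one] at h2
    · have := h2.pow_right 15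
      rwa [← pow_mul, upow_mod, show 2 * 15 % 29 = 1 from rfl, pow_one] at this
  obtain ⟨i, hi⟩ := cent_u h3
  refine ⟨u ^ (18 * i), (Commute.refl u).pow_left _, ?_⟩
  rw [mul_inv_eq_iff_eq_mul, show β g = u ^ i * g by rw [← hi, inv_mul_cancel_right], ← mul_assoc,
    ← pow_add, upow_g]
  congr 1
  rw [upow_mod, upow_mod (18 * i)]
  congr 1
  omega

/-- The words `g ^ i` and `g ^ i * w` of order two. -/
def twoOK (i : ℕ) : Bool :=
  i == 0 || i == 7

theorem inv_cases : (List.range 14).all (fun i => twoOK i ||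
    !agree (rep i wg ++ rep i wg) []) = true ∧ (List.range 14).all (fun i => twoOK i ||
    !agree ((rep i wg ++ ww) ++ (rep i wg ++ ww)) []) = true := by
  decide +kernel

theorem w_cases {x : G} (hx : Commute x g) (h2 : x * x = 1) :
    x = 1 ∨ x = g ^ 7 ∨ x = w ∨ x = g ^ 7 * w := by
  obtain ⟨i, hi, hxi⟩ := cent_g hx
  obtain ⟨c1, c2⟩ := inv_cases
  rw [List.all_eq_true] at c1 c2
  have hin := candG_in
  rw [List.all_eq_true] at hin
  have hin' := hin i (List.mem_range.mpr hi)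
  rw [Bool.and_eq_true] at hin'
  have hi0 : i = 0 ∨ i = 7 := by
    by_contra hne
    have hf : twoOK i = false := by
      simp only [twoOK, Bool.or_eq_false_iff, beq_eq_false_iff_ne]
      omega
    have h2' : (x : Equiv.Perm Pt) * x = 1 := congrArg Subtype.val h2
    rcases hxi with rfl | rfl
    · have h := c1 i (List.mem_range.mpr hi)
      rw [hf, Bool.false_or] at h
      refine ev_ne (A := rep i wg ++ rep i wg) (B := []) ?_ ?_
      · rw [h, show inS S8 [] = true from rfl, Bool.and_true]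
        simp only [inS, List.all_append, Bool.and_eq_true, Bool.and_self] at hin' ⊢
        exact ⟨hin'.1, trivial⟩
      · rw [ev_nil, ev_append, ev_rep]
        exact h2'
    · have h := c2 i (List.mem_range.mpr hi)
      rw [hf, Bool.false_or] at h
      refine ev_ne (A := (rep i wg ++ ww) ++ (rep i wg ++ ww)) (B := []) ?_ ?_
      · rw [h, show inS S8 [] = true from rfl, Bool.and_true]
        simp only [inS, List.all_append, Bool.and_eq_true, Bool.and_self] at hin' ⊢
        exact ⟨hin'.2, trivial⟩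
      · rw [ev_nil, ev_append (rep i wg ++ ww), ev_append, ev_rep]
        exact h2'
  rcases hi0 with rfl | rfl <;> rcases hxi with rfl | rfl <;> simp

theorem g7_ne_w : g ^ 7 ≠ w ∧ w ≠ 1 := by
  constructor
  · intro e
    refine ev_ne (A := rep 7 wg) (B := ww) (by decide +kernel) ?_
    rw [ev_rep]
    exact congrArg Subtype.val e
  · intro e
    refine ev_ne (A := ww) (B := []) (by decide +kernel) ?_
    rw [ev_nil]
    exact congrArg Subtype.val e

theorem w_sq : w * w = 1 := Subtype.ext (by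
  show ev ww * ev ww = 1
  rw [← ev_append, ev_eq (B := []) (by decide +kernel), ev_nil])

theorem rels : (u * w) ^ 15 = 1 ∧ (u * u * w * g) ^ 29 = 1 := by
  constructor <;> refine Subtype.ext ?_
  · show (ev [0] * ev ww) ^ 15 = 1
    rw [← ev_append, ← ev_rep, ev_eq (B := []) (by decide +kernel), ev_nil]
  · show (ev [0] * ev [0] * ev ww * ev wg) ^ 29 = 1
    rw [← ev_append, ← ev_append, ← ev_append, ← ev_rep, ev_eq (B := []) (by decide +kernel), ev_nil]

theorem non_rels : (u ^ 1 * (g ^ 7 * w)) ^ 15 ≠ 1 ∧ (u ^ 2 * w) ^ 15 ≠ 1 ∧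
    (u ^ 2 * u ^ 2 * (g ^ 7 * w) * g) ^ 29 ≠ 1 := by
  refine ⟨fun e => ?_, fun e => ?_, fun e => ?_⟩
  · refine ev_ne (A := rep 15 (rep 1 [0] ++ (rep 7 wg ++ ww))) (B := []) (by decide +kernel) ?_
    rw [ev_nil, ev_rep, ev_append, ev_append, ev_rep, ev_rep]
    exact congrArg Subtype.val e
  · refine ev_ne (A := rep 15 (rep 2 [0] ++ ww)) (B := []) (by decide +kernel) ?_
    rw [ev_nil, ev_rep, ev_append, ev_rep]
    exact congrArg Subtype.val e
  · refine ev_ne (A := rep 29 (rep 2 [0] ++ rep 2 [0] ++ (rep 7 wg ++ ww) ++ wg)) (B := [])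
      (by decide +kernel) ?_
    rw [ev_nil, ev_rep, ev_append, ev_append (rep 2 [0] ++ rep 2 [0]), ev_append, ev_append,
      ev_rep, ev_rep]
    exact congrArg Subtype.val e

theorem rigid (γ : MulAut G) {k : ℕ} (hk : k = 1 ∨ k = 2) (hu : γ u = u ^ k) (hg : γ g = g) :
    γ = 1 := by
  have hc : Commute (γ w) g := by
    have := congrArg γ wg_comm.eq
    rw [map_mul, map_mul, hg] at this
    exact this.symm
  have hs : γ w * γ w = 1 := by rw [← map_mul, w_sq, map_one]
  obtain ⟨r1, r3⟩ := rels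
  obtain ⟨n1, n2, n3⟩ := non_rels
  have q1 := congrArg γ r1
  have q3 := congrArg γ r3
  simp only [map_pow, map_mul, map_one, hu, hg] at q1 q3
  rcases w_cases hc hs with e | e | e | e
  · exact absurd (γ.injective (e.trans (map_one γ).symm)) g7_ne_w.2
  · refine absurd (γ.injective (e.trans ?_)).symm g7_ne_w.1
    rw [map_pow, hg]
  · rcases hk with rfl | rfl
    · exact eq_of_gens (hu.trans (pow_one u)) hg e
    · rw [e] at q1
      exact absurd q1 n2
  · rcases hk with rfl | rfl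
    · rw [e] at q1
      exact absurd q1 n1
    · rw [e] at q3
      exact absurd q3 n3

theorem inner (α : MulAut G) : α ∈ Cfsg.Inn G := by
  obtain ⟨h, k, hk, hhk⟩ := conj_to_u (α u) (by rw [MulEquiv.orderOf_eq]; exact order_u)
  set β := MulAut.conj h * α with hβ
  have hu : β u = u ^ k := by rw [hβ, MulAut.mul_apply, MulAut.conj_apply, hhk]
  obtain ⟨q, hq, hqg⟩ := g_fix β hk hu
  have e : MulAut.conj q * β = 1 := by
    refine rigid _ hk ?_ ?_
    · rw [MulAut.mul_apply, hu, MulAut.conj_apply, (hq.pow_right k).eq, mul_inv_cancel_right]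
    · rw [MulAut.mul_apply, MulAut.conj_apply, hqg]
  rw [hβ, ← mul_assoc, ← map_mul] at e
  rw [eq_inv_of_mul_eq_one_right e]
  exact (Cfsg.Inn G).inv_mem ⟨q * h, rfl⟩

theorem card_out : Nat.card (Cfsg.Out G) = 1 := by
  show (Cfsg.Inn G).index = 1
  rw [Subgroup.index_eq_one, eq_top_iff]
  exact fun α _ => inner α

end Cfsg.Agent.SporB.Ru.Out
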