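import Mathlib.Data.Nat.Notation

/-!
Words for the rigidity of the Rudvalis group.
-/

set_option autoImplicit false

namespace Cfsg.Agent.SporB.Ru.Out

/-- An element of order 14 raising the first letter to its fourth power. -/
def wg : List ℕ := [13, 14, 8, 8, 11, 9, 9, 11, 8, 5, 7, 7, 4, 7, 4, 7, 3, 0, 0, 2, 1, 3, 3, 1]

/-- An involution centralising `wg`, outside the normaliser of the first letter. -/
def ww : List ℕ := [12, 14, 13, 9, 9, 10, 9, 10, 9, 10, 5, 7, 4, 7, 7, 5, 5, 2, 2, 0, 3, 0, 0, 2]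

/-- The second generator over `u`, `u⁻¹`, `g`, `g⁻¹`, `w`. -/
def w2 : List ℕ := [1, 2, 1, 4, 1, 2, 4, 1, 3, 3, 4, 0, 4, 1, 4, 3, 0, 3, 0, 4, 3, 3, 1, 2]

/-- The images of 0 under the centraliser of the first letter. -/
def solU : List ℕ := [0, 8, 134, 197, 251, 337, 374, 384, 872, 994, 1317, 1325, 1407, 1542, 1725, 1791, 1864, 1984, 2315, 2447, 2568, 2864, 2892, 3214, 3221, 3296, 3871, 3960, 3986]

/-- The images of 0 under the centraliser of `wg`. -/
def solG : List ℕ := [0, 9, 25, 381, 596, 687, 866, 1194, 1236, 1355, 1563, 1781, 1845, 1931, 1939, 1951, 2164, 2370, 2591, 2634, 2674, 2864, 3177, 3203, 3206, 3583, 3716, 4048]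

end Cfsg.Agent.SporB.Ru.Out
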