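import Cfsg.Agent.SporB.Ru.Main
import Cfsg.Agent.SporB.Ru.Out.Data

/-!
Centralisers read off from an invariant graph: where a commuting element sends one point decides it.
-/

set_option autoImplicit false
set_option maxRecDepth 100000

namespace Cfsg.Agent.SporB.Ru.Out

open Cfsg.Agent.CosetEnum

/-- Repeat a word. -/
def rep : ℕ → List ℕ → List ℕ
  | 0, _ => []
  | k + 1, W => W ++ rep k W

/-- The points of `x` under a word. -/
noncomputable def orbL (a : List ℕ) : ℕ → ℕ → List ℕ :=
  fun k => Nat.rec (motive := fun _ => ℕ → List ℕ) (fun _ => [])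
    (fun _ ih x => forceNat x fun x => x :: ih (go a x)) k

/-- The adjacencies of the first point with its iterates agree with those of `p`. -/
noncomputable def patOK (a : List ℕ) (k p : ℕ) : Bool :=
  forceNat (look rows 0 0) fun r => forceNat (look rows p 0) fun s =>
    ((orbL a k 0).zip (orbL a k p)).all fun xy => r.testBit xy.1 == s.testBit xy.2

/-- All the points. -/
def full : ℕ := 2 ^ 4060 - 1

/-- The possible images of `b` when `ps` goes to `qs`. -/
noncomputable def cmask (ps qs : List ℕ) (b : ℕ) : ℕ :=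
  (ps.zip qs).foldr (fun xy acc =>
    acc &&& bif adj rows xy.1 b then look rows xy.2 0 else full ^^^ look rows xy.2 0) full

/-- Points fixed one after the other. -/
noncomputable def pins : List ℕ → List ℕ → Bool :=
  fun K bs => List.rec (motive := fun _ => List ℕ → Bool) (fun _ => true)
    (fun b _ ih K => Nat.beq (cmask K K b) (1 <<< b) && ih (b :: K)) bs K

/-- A point is no image of 0 except for the listed ones. -/
noncomputable def killOK (a : List ℕ) (k j : ℕ) (sol : List ℕ) (p : ℕ) : Bool :=
  !patOK a j p || sol.any (Nat.beq p) ||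
    base.any fun b => Nat.beq (cmask (orbL a k 0) (orbL a k p) b) 0

variable {f : Equiv.Perm Pt} {a : List ℕ}

/-- The function on numbers of a permutation. -/
def num (f : Equiv.Perm Pt) (x : ℕ) : ℕ := if h : x < 4060 then (f ⟨x, h⟩ : ℕ) else x

theorem num_val (f : Equiv.Perm Pt) (i : Pt) : num f i = f i := by
  rw [num, dif_pos i.2]

theorem orbL_succ (a : List ℕ) (k x : ℕ) : orbL a (k + 1) x = x :: orbL a k (go a x) :=
  by cases x <;> rfl

theorem orbL_map (hcomm : ∀ i : Pt, ((f i : Pt) : ℕ) < 4060 ∧ num f (go a i) = go a (f i))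
    (hlt : ∀ i : Pt, go a i < 4060) : ∀ (k : ℕ) (i : Pt),
    orbL a k (f i : Pt) = (orbL a k i).map (num f) ∧ ∀ x ∈ orbL a k i, x < 4060 := by
  intro k
  induction k with
  | zero => intro i; exact ⟨rfl, fun x hx => absurd hx List.not_mem_nil⟩
  | succ k ih =>
    intro i
    obtain ⟨e, hb⟩ := ih ⟨go a i, hlt i⟩
    rw [← num_val f ⟨go a i, hlt i⟩, show num f ((⟨go a i, hlt i⟩ : Pt) : ℕ) = go a (f i : Pt) from
      (hcomm i).2] at e
    constructor
    · rw [orbL_succ, orbL_succ]
      simp only [List.map_cons, num_val]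
      exact congrArg _ e
    · intro x hx
      rw [orbL_succ] at hx
      rcases List.mem_cons.mp hx with rfl | hx
      exacts [i.2, hb x hx]

theorem zip_map_mem {K : List ℕ} {φ : ℕ → ℕ} {xy : ℕ × ℕ} (h : xy ∈ K.zip (K.map φ)) :
    xy.1 ∈ K ∧ xy.2 = φ xy.1 := by
  induction K with
  | nil => simp at h
  | cons c K ih =>
    simp only [List.map_cons, List.zip_cons_cons, List.mem_cons] at h
    rcases h with rfl | h
    · exact ⟨List.mem_cons_self, rfl⟩
    · exact ⟨List.mem_cons_of_mem _ (ih h).1, (ih h).2⟩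

theorem num_adj (hf : f ∈ autG rows) {x y : ℕ} (hx : x < 4060) (hy : y < 4060) :
    adj rows (num f x) (num f y) = adj rows x y := by
  rw [num, dif_pos hx, num, dif_pos hy]
  exact hf ⟨x, hx⟩ ⟨y, hy⟩

theorem full_bit {j : ℕ} (hj : j < 4060) : full.testBit j = true := by
  rw [full, Nat.testBit_two_pow_sub_one]
  exact decide_eq_true hj

theorem cmask_bit (hf : f ∈ autG rows) {ps : List ℕ} (hps : ∀ x ∈ ps, x < 4060) (b : Pt) :
    (cmask ps (ps.map (num f)) b).testBit (f b : Pt) = true := by
  induction ps with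
  | nil => exact full_bit (f b).2
  | cons x ps ih =>
    simp only [cmask, List.map_cons, List.zip_cons_cons, List.foldr_cons, Nat.testBit_and,
      Bool.and_eq_true]
    refine ⟨ih fun y hy => hps y (List.mem_cons_of_mem _ hy), ?_⟩
    have h := num_adj hf (hps x List.mem_cons_self) b.2
    rw [num_val] at h
    cases hb : adj rows x b with
    | true =>
      rw [hb] at h
      exact h
    | false =>
      rw [hb] at h
      change (full ^^^ look rows (num f x) 0).testBit (f b : Pt) = true
      rw [Nat.testBit_xor, full_bit (f b).2]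
      change Bool.xor true (adj rows (num f x) (f b : Pt)) = true
      rw [h]
      rfl

theorem pins_fix (hf : f ∈ autG rows) : ∀ {bs K : List ℕ}, pins K bs = true →
    (∀ x ∈ K, x < 4060 ∧ num f x = x) → (∀ b ∈ bs, b < 4060) → ∀ b ∈ bs, num f b = b := by
  intro bs
  induction bs with
  | nil => intro K _ _ _ b hb; exact absurd hb List.not_mem_nil
  | cons c bs ih =>
    intro K h hK hbs
    change (Nat.beq (cmask K K c) (1 <<< c) && pins (c :: K) bs) = true at h
    rw [Bool.and_eq_true] at h
    have hc := hbs c List.mem_cons_self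
    have hm := cmask_bit hf (fun x hx => (hK x hx).1) ⟨c, hc⟩
    rw [List.map_congr_left (g := id) (fun x hx => (hK x hx).2), List.map_id,
      Nat.eq_of_beq_eq_true h.1, Nat.one_shiftLeft, Nat.testBit_two_pow] at hm
    have hfc : num f c = c := by
      rw [num, dif_pos hc]
      exact (of_decide_eq_true hm).symm
    intro b hb
    rcases List.mem_cons.mp hb with rfl | hb
    · exact hfc
    · refine ih h.2 ?_ (fun b hb => hbs b (List.mem_cons_of_mem _ hb)) b hb
      intro x hx
      rcases List.mem_cons.mp hx with rfl | hx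
      exacts [⟨hc, hfc⟩, hK x hx]

theorem base_lt {b : ℕ} (hb : b ∈ base) : b < 4060 :=
  Nat.le_of_ble_eq_true (List.all_eq_true.mp base_ok b hb)

theorem image_mem (hf : f ∈ autG rows) (ha : ∀ l ∈ a, l < nl)
    (hc : Commute f (evalWord (val lettersOK) a)) {k j : ℕ} {sol : List ℕ}
    (h : ∀ p, p < 4060 → killOK a k j sol p = true) : (f 0 : Pt).1 ∈ sol := by
  have hlt : ∀ i : Pt, go a i < 4060 := fun i => by
    rw [← go_eval lettersOK a ha i]
    exact Fin.is_lt _
  have hcomm : ∀ i : Pt, ((f i : Pt) : ℕ) < 4060 ∧ num f (go a i) = go a (f i : Pt) := fun i => by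
    refine ⟨(f i).2, ?_⟩
    rw [← go_eval lettersOK a ha i, num_val, ← go_eval lettersOK a ha (f i), ← Equiv.Perm.mul_apply,
      (hc.inv_right).eq, Equiv.Perm.mul_apply]
  have hk := h _ (f 0).2
  simp only [killOK, Bool.or_eq_true, Bool.not_eq_true'] at hk
  rcases hk with (hk | hk) | hk
  · exfalso
    obtain ⟨e, hb⟩ := orbL_map hcomm hlt j 0
    change orbL a j (f 0 : Pt) = (orbL a j 0).map (num f) at e
    have hp : patOK a j (f 0 : Pt) = true := by
      rw [patOK, forceNat_eq, forceNat_eq, List.all_eq_true]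
      intro xy hxy
      rw [e] at hxy
      obtain ⟨h1, h2⟩ := zip_map_mem hxy
      rw [beq_iff_eq, h2]
      have := num_adj hf (x := 0) (by norm_num) (hb _ h1)
      rw [show num f 0 = ((f 0 : Pt) : ℕ) from num_val f 0] at this
      exact this.symm
    rw [hp] at hk
    exact absurd hk (by decide)
  · rw [List.any_eq_true] at hk
    obtain ⟨x, hx, he⟩ := hk
    rwa [Nat.eq_of_beq_eq_true he]
  · exfalso
    rw [List.any_eq_true] at hk
    obtain ⟨b, hb, he⟩ := hk
    obtain ⟨e, hlt0⟩ := orbL_map hcomm hlt k 0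
    change orbL a k (f 0 : Pt) = (orbL a k 0).map (num f) at e
    have hm := cmask_bit hf hlt0 ⟨b, base_lt hb⟩
    change (cmask (orbL a k 0) ((orbL a k 0).map (num f)) b).testBit _ = true at hm
    rw [← e, Nat.eq_of_beq_eq_true he, Nat.zero_testBit] at hm
    exact absurd hm (by decide)

theorem eq_one_of_fix (hf : f ∈ autG rows) (ha : ∀ l ∈ a, l < nl)
    (hc : Commute f (evalWord (val lettersOK) a)) {k : ℕ} (h : pins (orbL a k 0) base = true)
    (h0 : f 0 = 0) : f = 1 := by
  have hlt : ∀ i : Pt, go a i < 4060 := fun i => by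
    rw [← go_eval lettersOK a ha i]
    exact Fin.is_lt _
  have hfix : ∀ (k : ℕ) (i : Pt), f i = i → ∀ x ∈ orbL a k i, x < 4060 ∧ num f x = x := by
    intro k
    induction k with
    | zero => intro i _ x hx; exact absurd hx List.not_mem_nil
    | succ k ih =>
      intro i hi x hx
      rw [orbL_succ] at hx
      rcases List.mem_cons.mp hx with rfl | hx
      · exact ⟨i.2, by rw [num_val, hi]⟩
      · refine ih ⟨go a i, hlt i⟩ ?_ x hx
        have : (⟨go a i, hlt i⟩ : Pt) = (evalWord (val lettersOK) a)⁻¹ i :=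
          Fin.ext (go_eval lettersOK a ha i).symm
        rw [this, ← Equiv.Perm.mul_apply, (hc.inv_right).eq, Equiv.Perm.mul_apply, hi]
  refine faithful_autG base_ok sig_ok f hf fun b hb i hi => ?_
  have := pins_fix hf h (hfix k 0 h0) (fun b hb => base_lt hb) b hb
  rw [← hi, num_val] at this
  exact Fin.ext this

end Cfsg.Agent.SporB.Ru.Out
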