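import Cfsg.Agent.SporB.Ru.Out.Base

/-!
Checks for the centraliser of the first letter.
-/

set_option autoImplicit false
set_option maxRecDepth 100000

namespace Cfsg.Agent.SporB.Ru.Out

open Cfsg.Agent.CosetEnum

/-- The check at one point. -/
noncomputable def killU (p : ℕ) : Bool := killOK [0] 29 15 solU p

theorem killU_0 : allRange killU 0 1015 = true := by decide +kernel

theorem killU_1 : allRange killU 1015 1015 = true := by decide +kernel

theorem killU_2 : allRange killU 2030 1015 = true := by decide +kernel

theorem killU_3 : allRange killU 3045 1015 = true := by decide +kernel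

theorem killU_ok : ∀ p, p < 4060 → killU p = true := by
  intro p hp
  rcases Nat.lt_or_ge p 1015 with h | h
  · exact allRange_spec killU_0 p (by omega) (by omega)
  rcases Nat.lt_or_ge p 2030 with h | h
  · exact allRange_spec killU_1 p (by omega) (by omega)
  rcases Nat.lt_or_ge p 3045 with h | h
  · exact allRange_spec killU_2 p (by omega) (by omega)
  exact allRange_spec killU_3 p (by omega) (by omega)

theorem pinsU : pins (orbL [0] 29 0) base = true := by decide +kernel

theorem solU_ok : solU.all (fun p => (List.range 29).any fun i => Nat.beq (go (rep i [0]) 0) p) = true := by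
  decide +kernel

end Cfsg.Agent.SporB.Ru.Out
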