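import Cfsg.Agent.SporB.Ru.Out.CertU
import Cfsg.Agent.SporB.Ru.Out.CertG
import Cfsg.Prelude.Def_KGroupFacts

/-!
Every automorphism of the permutation group of Rudvalis is inner: an element of order 29, an
element of order 14 of its normaliser and one more involution commuting with the latter are rigid.
-/

set_option autoImplicit false
set_option maxRecDepth 100000

namespace Cfsg.Agent.SporB.Ru.Out

open Cfsg.Agent.CosetEnum

/-- The group. -/
noncomputable abbrev G : Subgroup (Equiv.Perm Pt) := sg [0, 2]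

/-- The value of a word. -/
noncomputable abbrev ev (W : List ℕ) : Equiv.Perm Pt := evalWord (val lettersOK) W

/-- The letters of the chain. -/
def S8 : List ℕ := [0, 2, 4, 6, 8, 10, 12, 14]

theorem mem_G {W : List ℕ} (h : inS S8 W = true) : ev W ∈ G := by
  refine sg_le ?_ (eval_mem lettersOK h)
  intro l hl
  simp only [S8, List.mem_cons, List.not_mem_nil, or_false] at hl
  rcases hl with rfl | rfl | rfl | rfl | rfl | rfl | rfl | rfl
  exacts [mem_sg (by decide), mem_sg (by decide), g00 (mem_sg (by decide)),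
    g00 (mem_sg (by decide)), g00 (g10 (mem_sg (by decide))), g00 (g10 (mem_sg (by decide))),
    g00 (g10 (g21 (mem_sg (by decide)))), g00 (g10 (g21 (mem_sg (by decide))))]

theorem G_le : G ≤ autG rows := by
  refine sg_le ?_
  intro l hl
  simp only [List.mem_cons, List.not_mem_nil, or_false] at hl
  rcases hl with rfl | rfl
  exacts [mem_autG lettersOK (by decide) net0_ok rows0_ok,
    mem_autG lettersOK (by decide) net2_ok rows2_ok]

theorem ev_append (A B : List ℕ) : ev (A ++ B) = ev A * ev B := evalWord_append _ A B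

theorem ev_rep (W : List ℕ) : ∀ k, ev (rep k W) = ev W ^ k
  | 0 => by rw [pow_zero]; rfl
  | k + 1 => by rw [rep, ev_append, ev_rep W k, pow_succ']

theorem ev_nil : ev [] = 1 := rfl

theorem ev_single (l : ℕ) : ev [l] = val lettersOK l := mul_one _

theorem ev_one_linv : ev [1] = (ev [0])⁻¹ := by
  rw [ev_single, ev_single]
  exact val_linv lettersOK (l := 0) (by decide)

attribute [local irreducible] evalWord val act go

theorem ev_eq {A B : List ℕ} (h : (inS S8 A && inS S8 B && agree A B) = true) : ev A = ev B := by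
  simp only [Bool.and_eq_true] at h
  exact agree_eq lettersOK faithful_H (inS_lt h.1.1) (inS_lt h.1.2) (mem_G h.1.1) (mem_G h.1.2) h.2

theorem ev_ne {A B : List ℕ} (h : (inS S8 A && inS S8 B && !agree A B) = true) : ev A ≠ ev B := by
  simp only [Bool.and_eq_true, Bool.not_eq_true', ← Bool.not_eq_true] at h
  intro e
  refine h.2 ?_
  rw [agree, List.all_eq_true]
  intro b hb
  have ea := go_eval lettersOK A (inS_lt h.1.1) ⟨b, base_lt hb⟩
  have eb := go_eval lettersOK B (inS_lt h.1.2) ⟨b, base_lt hb⟩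
  change (((ev A)⁻¹ ⟨b, _⟩ : Pt) : ℕ) = _ at ea
  change (((ev B)⁻¹ ⟨b, _⟩ : Pt) : ℕ) = _ at eb
  rw [← ea, ← eb, e]
  exact Nat.beq_refl _

theorem wg_in : inS S8 wg = true := by decide +kernel
theorem ww_in : inS S8 ww = true := by decide +kernel
theorem u_in : inS S8 [0] = true := by decide +kernel

/-- The element of order 29. -/
noncomputable def u : G := ⟨ev [0], mem_G u_in⟩
/-- The element of order 14. -/
noncomputable def g : G := ⟨ev wg, mem_G wg_in⟩
/-- The involution. -/
noncomputable def w : G := ⟨ev ww, mem_G ww_in⟩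

theorem u_pow : u ^ 29 = 1 := Subtype.ext (by
  rw [SubgroupClass.coe_pow, show (u : Equiv.Perm Pt) = ev [0] from rfl, ← ev_rep]
  exact (ev_eq (by decide +kernel)).trans ev_nil)

theorem u_ne : u ≠ 1 := fun e =>
  ev_ne (A := [0]) (B := []) (by decide +kernel) ((congrArg Subtype.val e : ev [0] = 1).trans ev_nil.symm)

theorem order_u : orderOf u = 29 :=
  orderOf_eq_prime (hp := ⟨by norm_num⟩) u_pow u_ne

theorem ug : u * g = g * u ^ 4 := Subtype.ext (by
  simp only [Subgroup.coe_mul, SubgroupClass.coe_pow]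
  show ev [0] * ev wg = ev wg * ev [0] ^ 4
  rw [← ev_rep, ← ev_append, ← ev_append]
  exact ev_eq (by decide +kernel))

theorem wg_comm : Commute g w := Subtype.ext (by
  simp only [Subgroup.coe_mul]
  show ev wg * ev ww = ev ww * ev wg
  rw [← ev_append, ← ev_append]
  exact ev_eq (by decide +kernel))

theorem upow_g (n : ℕ) : u ^ n * g = g * u ^ (4 * n) := by
  rw [pow_mul]
  exact (SemiconjBy.pow_right (show SemiconjBy g (u ^ 4) u from ug.symm) n).eq.symm

theorem upow_gpow : ∀ t n : ℕ, u ^ n * g ^ t = g ^ t * u ^ (4 ^ t * n)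
  | 0, n => by simp
  | t + 1, n => by
    rw [pow_succ, ← mul_assoc, upow_gpow t n, mul_assoc, upow_g, ← mul_assoc]
    congr 2
    rw [pow_succ]
    ring

theorem upow_mod (n : ℕ) : u ^ n = u ^ (n % 29) := by
  conv_lhs => rw [pow_eq_pow_mod n u_pow]

theorem cent_u {x : G} (hx : Commute x u) : ∃ i, x = u ^ i := by
  have hc : Commute (x : Equiv.Perm Pt) (ev [0]) := congrArg Subtype.val hx
  have hf : (x : Equiv.Perm Pt)⁻¹ ∈ autG rows := inv_mem (G_le x.2)
  have hm := image_mem hf (inS_lt u_in) hc.inv_left (k := 29) (j := 15) killU_ok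
  have hs := solU_ok
  rw [List.all_eq_true] at hs
  have h := hs _ hm
  rw [List.any_eq_true] at h
  obtain ⟨i, hi, he⟩ := h
  have hin : ∀ l ∈ rep i [0], l < nl := by
    intro l hl
    have : ∀ i, ∀ l ∈ rep i [0], l = 0 := fun i => by
      induction i with
      | zero => intro l hl; exact absurd hl List.not_mem_nil
      | succ i ih =>
        intro l hl
        rcases List.mem_cons.mp hl with rfl | hl
        exacts [rfl, ih l hl]
    rw [this i l hl]
    decide
  have e : (ev (rep i [0]))⁻¹ 0 = (x : Equiv.Perm Pt)⁻¹ 0 :=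
    Fin.ext ((go_eval lettersOK _ hin 0).trans (Nat.eq_of_beq_eq_true he))
  have key : ev (rep i [0]) * (x : Equiv.Perm Pt)⁻¹ = 1 := by
    refine eq_one_of_fix ?_ (inS_lt u_in) ?_ pinsU ?_
    · refine mul_mem (G_le ?_) hf
      rw [ev_rep]
      exact pow_mem (mem_G u_in) i
    · rw [ev_rep]
      exact ((Commute.refl _).pow_left i).mul_left hc.inv_left
    · rw [Equiv.Perm.mul_apply, ← e]
      exact Equiv.apply_symm_apply (ev (rep i [0])) 0
  refine ⟨i, Subtype.ext ?_⟩
  rw [SubgroupClass.coe_pow]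
  show _ = ev [0] ^ i
  rw [← ev_rep, mul_inv_eq_one.mp key]

theorem candG_in : (List.range 14).all (fun i => inS S8 (rep i wg) && inS S8 (rep i wg ++ ww)) = true := by
  decide +kernel

theorem cent_g {x : G} (hx : Commute x g) : ∃ i < 14, x = g ^ i ∨ x = g ^ i * w := by
  have hc : Commute (x : Equiv.Perm Pt) (ev wg) := congrArg Subtype.val hx
  have hf : (x : Equiv.Perm Pt)⁻¹ ∈ autG rows := inv_mem (G_le x.2)
  have hm := image_mem hf (inS_lt wg_in) hc.inv_left (k := 14) (j := 8) killG_ok
  have hs := solG_ok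
  rw [List.all_eq_true] at hs
  have h := hs _ hm
  rw [List.any_eq_true] at h
  obtain ⟨i, hi, he⟩ := h
  have hin := candG_in
  rw [List.all_eq_true] at hin
  have hin' := hin i hi
  rw [Bool.and_eq_true] at hin'
  have done : ∀ W, inS S8 W = true → Commute (ev W) (ev wg) → go W 0 = ((x : Equiv.Perm Pt)⁻¹ 0 : Pt) →
      (x : Equiv.Perm Pt) = ev W := by
    intro W hW hcW e
    have e' : (ev W)⁻¹ 0 = (x : Equiv.Perm Pt)⁻¹ 0 :=
      Fin.ext ((go_eval lettersOK _ (inS_lt hW) 0).trans e)
    have key : ev W * (x : Equiv.Perm Pt)⁻¹ = 1 := by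
      refine eq_one_of_fix (mul_mem (G_le (mem_G hW)) hf) (inS_lt wg_in) (hcW.mul_left hc.inv_left)
        pinsG ?_
      rw [Equiv.Perm.mul_apply, ← e']
      exact Equiv.apply_symm_apply (ev W) 0
    exact (mul_inv_eq_one.mp key).symm
  refine ⟨i, List.mem_range.mp hi, ?_⟩
  rw [Bool.or_eq_true] at he
  rcases he with he | he
  · left
    refine Subtype.ext ((done _ hin'.1 ?_ (Nat.eq_of_beq_eq_true he)).trans ?_)
    · rw [ev_rep]; exact (Commute.refl _).pow_left i
    · rw [ev_rep, SubgroupClass.coe_pow]; rfl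
  · right
    refine Subtype.ext ((done _ hin'.2 ?_ (Nat.eq_of_beq_eq_true he)).trans ?_)
    · rw [ev_append, ev_rep]
      exact ((Commute.refl _).pow_left i).mul_left (congrArg Subtype.val wg_comm.symm)
    · rw [ev_append, ev_rep, Subgroup.coe_mul, SubgroupClass.coe_pow]; rfl

/-- The words for the generators. -/
def gw : List (List ℕ) := [[0], [1], wg, wg.reverse.map linv, ww]

theorem w2_ok : (inS S8 (w2.flatMap fun l => gw.getD l [])) = true ∧
    inS S8 [2] = true ∧ agree (w2.flatMap fun l => gw.getD l []) [2] = true := by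
  decide +kernel

theorem eq_of_gens {φ : MulAut G} (hu : φ u = u) (hg : φ g = g) (hw : φ w = w) : φ = 1 := by
  let F : Subgroup (Equiv.Perm Pt) := (φ.toMonoidHom.eqLocus (MonoidHom.id G)).map G.subtype
  have mu : ev [0] ∈ F := ⟨u, hu, rfl⟩
  have mg : ev wg ∈ F := ⟨g, hg, rfl⟩
  have mw : ev ww ∈ F := ⟨w, hw, rfl⟩
  have m1 : ev [1] ∈ F := by rw [ev_one_linv]; exact inv_mem mu
  have m3 : ev (wg.reverse.map linv) ∈ F := by
    have : ev (wg.reverse.map linv) = (ev wg)⁻¹ := eq_inv_of_mul_eq_one_left (by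
      rw [← ev_append]
      exact (ev_eq (by decide +kernel)).trans ev_nil)
    rw [this]
    exact inv_mem mg
  have hgen : ∀ l, ev (gw.getD l []) ∈ F := by
    intro l
    match l with
    | 0 => exact mu
    | 1 => exact m1
    | 2 => exact mg
    | 3 => exact m3
    | 4 => exact mw
    | n + 5 => rw [show gw.getD (n + 5) [] = [] from rfl, ev_nil]; exact one_mem F
  have h2 : ev [2] ∈ F := by
    have h : ∀ L : List ℕ, ev (L.flatMap fun l => gw.getD l []) ∈ F := fun L => by
      induction L with
      | nil => rw [List.flatMap_nil, ev_nil]; exact one_mem F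
      | cons l L ih => rw [List.flatMap_cons, ev_append]; exact mul_mem (hgen l) ih
    rw [← ev_eq (A := w2.flatMap fun l => gw.getD l []) (B := [2])
      (by rw [w2_ok.1, w2_ok.2.1, w2_ok.2.2]; rfl)]
    exact h w2
  have hle : G ≤ F := sg_le fun l hl => by
    rcases list_cases2 hl with rfl | rfl
    · show val lettersOK 0 ∈ F
      rw [← ev_single]
      assumption
    · show val lettersOK 2 ∈ F
      rw [← ev_single]
      assumption
  refine MulEquiv.ext fun x => ?_
  obtain ⟨y, hy, e⟩ := hle x.2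
  obtain rfl : y = x := Subtype.ext e
  exact hy

end Cfsg.Agent.SporB.Ru.Out
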